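import Cfsg.Agent.Lib.JordanDiv.Galois

/-!
Additive subgroups of a ring closed under `a b a` and inverses, and projections onto the eigenspaces of
a finite field inside the ring.

* `Closed`, `Closed.mul_mem`: products of commuting members
* `IsEig`, `proj`, `sum_proj`, `proj_of_eig`
* `Closed.proj_mem`, `Closed.proj_add_proj_mem`: the symmetric projections preserve `S`
-/

set_option autoImplicit false

namespace Cfsg.Agent.JordanDiv

variable {R : Type*} [Ring R]

/-- A division Jordan subgroup. -/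
structure Closed (p : ℕ) (S : AddSubgroup R) : Prop where
  prime : p.Prime
  char : (p : R) = 0
  one_mem : (1 : R) ∈ S
  inv : ∀ s ∈ S, s ≠ 0 → ∃ t ∈ S, s * t = 1 ∧ t * s = 1
  aba : ∀ a ∈ S, ∀ b ∈ S, a * b * a ∈ S

variable {p : ℕ} {S : AddSubgroup R}

namespace Closed

theorem polar (h : Closed p S) {a b c : R} (ha : a ∈ S) (hb : b ∈ S) (hc : c ∈ S) :
    a * b * c + c * b * a ∈ S := by
  rw [show a * b * c + c * b * a = (a + c) * b * (a + c) - a * b * a - c * b * c by noncomm_ring]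
  exact sub_mem (sub_mem (h.aba _ (add_mem ha hc) _ hb) (h.aba _ ha _ hb)) (h.aba _ hc _ hb)

theorem eq_zero_of_mul (h : Closed p S) {s x : R} (hs : s ∈ S) (hs0 : s ≠ 0) (hx : s * x = 0) : x = 0 := by
  obtain ⟨t, -, -, ht⟩ := h.inv s hs hs0
  rw [← one_mul x, ← ht, mul_assoc, hx, mul_zero]

theorem pow_mem (h : Closed p S) {a : R} (ha : a ∈ S) : ∀ n : ℕ, a ^ n ∈ S
  | 0 => by rw [pow_zero]; exact h.one_mem
  | 1 => by rwa [pow_one]
  | n + 2 => by
    rw [pow_succ, pow_succ']
    exact h.aba _ ha _ (h.pow_mem ha n)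

/-- Products of commuting members are members. -/
theorem mul_mem [Finite R] (h : Closed p S) {a b : R} (ha : a ∈ S) (hb : b ∈ S) (hab : a * b = b * a) :
    a * b ∈ S := by
  rcases h.prime.eq_two_or_odd' with h2 | hodd
  · have two : (2 : R) = 0 := by rw [← Nat.cast_two, ← h2]; exact h.char
    by_cases ha0 : a = 0
    · rw [ha0, zero_mul]; exact zero_mem S
    obtain ⟨t, -, hat, hta⟩ := h.inv a ha ha0
    let A : Rˣ := ⟨a, t, hat, hta⟩
    have hodd : Odd (orderOf A) := by
      rw [← Nat.not_even_iff_odd]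
      rintro ⟨r, hr⟩
      have hr0 : 0 < r := by have := orderOf_pos A; omega
      have hA : a ^ (r + r) = 1 := by
        have := congrArg Units.val (pow_orderOf_eq_one A)
        rwa [hr, Units.val_pow_eq_pow_val, Units.val_one] at this
      have hz : (a ^ r - 1) * (a ^ r - 1) = 0 := by
        rw [show (a ^ r - 1) * (a ^ r - 1) = a ^ r * a ^ r - 2 * a ^ r + 1 by noncomm_ring, ← pow_add, hA, two,
          zero_mul, sub_zero, show (1 : R) + 1 = 2 from one_add_one_eq_two, two]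
      have hne : a ^ r - 1 ≠ 0 := fun e => by
        have h1 : A ^ r = 1 := Units.ext (by rw [Units.val_pow_eq_pow_val, Units.val_one]; exact sub_eq_zero.1 e)
        have := Nat.le_of_dvd hr0 (orderOf_dvd_of_pow_eq_one h1)
        omega
      exact hne (h.eq_zero_of_mul (sub_mem (h.pow_mem ha r) h.one_mem) hne hz)
    obtain ⟨k, hk⟩ := hodd
    have hA : a ^ (2 * k + 1) = 1 := by
      have := congrArg Units.val (pow_orderOf_eq_one A)
      rwa [hk, Units.val_pow_eq_pow_val, Units.val_one] at this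
    have hc : a ^ (k + 1) * a ^ (k + 1) = a := by
      rw [← pow_add, show k + 1 + (k + 1) = (2 * k + 1) + 1 by ring, pow_succ, hA, one_mul]
    rw [← hc, mul_assoc, ((show Commute a b from hab).pow_left (k + 1)).eq, ← mul_assoc]
    exact h.aba _ (h.pow_mem ha _) _ hb
  · obtain ⟨k, hk⟩ := hodd
    have h2 : a * b + a * b ∈ S := by
      have := h.polar ha h.one_mem hb
      rwa [mul_one, mul_one, ← hab] at this
    have hp0 : p • (a * b) = 0 := by rw [nsmul_eq_mul, h.char, zero_mul]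
    have h3 : a * b = (k + 1) • (a * b + a * b) := by
      rw [← two_nsmul, ← mul_nsmul', show (k + 1) * 2 = p + 1 by omega, add_nsmul, hp0, one_nsmul, zero_add]
    rw [h3]
    exact nsmul_mem h2 _

end Closed

section Field

variable {L : Type*} [Field L] [Finite L] (φ : L →+* R)

/-- `X e = σ(e) X`. -/
def IsEig (σ : L ≃+* L) (X : R) : Prop := ∀ e, X * φ e = φ (σ e) * X

variable {φ}

omit [Finite L] in
theorem IsEig.mul {σ τ : L ≃+* L} {X Y : R} (hX : IsEig φ σ X) (hY : IsEig φ τ Y) : IsEig φ (σ * τ) (X * Y) :=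
  fun e => by rw [mul_assoc, hY, ← mul_assoc, hX, mul_assoc]; rfl

omit [Finite L] in
theorem isEig_map (y : L) : IsEig φ 1 (φ y) := fun e => by
  show φ y * φ e = φ e * φ y
  rw [← map_mul, mul_comm, map_mul]

omit [Finite L] in
theorem IsEig.left_mul {σ : L ≃+* L} {X : R} (hX : IsEig φ σ X) (y : L) : IsEig φ σ (φ y * X) := by
  simpa using (isEig_map y).mul hX

omit [Finite L] in
theorem isEig_one : IsEig φ 1 (1 : R) := by simpa using isEig_map (φ := φ) 1

omit [Finite L] in
theorem IsEig.pow {σ : L ≃+* L} {X : R} (hX : IsEig φ σ X) : ∀ n : ℕ, IsEig φ (σ ^ n) (X ^ n)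
  | 0 => by rw [pow_zero, pow_zero]; exact isEig_one
  | n + 1 => by rw [pow_succ, pow_succ]; exact (IsEig.pow hX n).mul hX

omit [Finite L] in
theorem IsEig.comm {X : R} (hX : IsEig φ 1 X) (y : L) : X * φ y = φ y * X := hX y

omit [Finite L] in
theorem IsEig.mul_pow_eq {σ : L ≃+* L} {X : R} (hX : IsEig φ σ X) (y : L) :
    ∀ k : ℕ, (φ y * X) ^ k = φ (nm σ k y) * X ^ k
  | 0 => by simp [nm]
  | k + 1 => by
    rw [pow_succ', IsEig.mul_pow_eq hX y k, nm_succ, map_mul, pow_succ' X]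
    simp only [mul_assoc]
    rw [← mul_assoc X, hX (nm σ k y), mul_assoc]

variable (φ) in
/-- The projection onto the eigenspace of `σ`. -/
noncomputable def proj (σ : L ≃+* L) (X : R) : R :=
  letI := Fintype.ofFinite Lˣ;
  -∑ e : Lˣ, φ (σ (e : L))⁻¹ * X * φ (e : L)

theorem proj_add (σ : L ≃+* L) (X Y : R) : proj φ σ (X + Y) = proj φ σ X + proj φ σ Y := by
  simp [proj, mul_add, add_mul, Finset.sum_add_distrib, add_comm]

theorem proj_zero (σ : L ≃+* L) : proj φ σ (0 : R) = 0 := by simp [proj]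

theorem proj_isEig (σ : L ≃+* L) (X : R) : IsEig φ σ (proj φ σ X) := by
  intro y
  let := Fintype.ofFinite Lˣ
  by_cases hy : y = 0
  · simp [hy]
  simp only [proj, neg_mul, mul_neg, Finset.sum_mul, Finset.mul_sum]
  congr 1
  refine Fintype.sum_equiv (Equiv.mulRight (Units.mk0 y hy)) _ _ fun e => ?_
  simp only [Equiv.coe_mulRight, Units.val_mul, Units.val_mk0, map_mul, mul_inv]
  rw [show φ (σ y) * (φ ((σ (e : L))⁻¹) * φ ((σ y)⁻¹) * X * (φ (e : L) * φ y)) =
    φ (σ y) * (φ ((σ (e : L))⁻¹) * φ ((σ y)⁻¹)) * X * φ (e : L) * φ y by noncomm_ring, ← map_mul, ← map_mul,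
    show σ y * ((σ (e : L))⁻¹ * (σ y)⁻¹) = (σ (e : L))⁻¹ by
      rw [mul_comm ((σ (e : L))⁻¹), ← mul_assoc, mul_inv_cancel₀ (by simpa using hy), one_mul]]

theorem proj_of_eig {σ ρ : L ≃+* L} {X : R} (hX : IsEig φ ρ X) :
    (ρ = σ → proj φ σ X = X) ∧ (ρ ≠ σ → proj φ σ X = 0) := by
  classical
  let := Fintype.ofFinite Lˣ
  have h : proj φ σ X = -(φ (if ρ = σ then -1 else 0) * X) := by
    rw [← sum_units_ratio, map_sum, Finset.sum_mul, proj]
    congr 1
    refine Finset.sum_congr rfl fun e _ => ?_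
    rw [mul_assoc, hX, ← mul_assoc, ← map_mul, mul_comm]
  refine ⟨fun e => ?_, fun e => ?_⟩
  · rw [h, if_pos e, map_neg, map_one, neg_one_mul, neg_neg]
  · rw [h, if_neg e, map_zero, zero_mul, neg_zero]

theorem proj_self {σ : L ≃+* L} {X : R} (hX : IsEig φ σ X) : proj φ σ X = X := (proj_of_eig hX).1 rfl

theorem proj_eq_zero {σ ρ : L ≃+* L} {X : R} (hX : IsEig φ ρ X) (h : ρ ≠ σ) : proj φ σ X = 0 :=
  (proj_of_eig hX).2 h

theorem sum_proj (hp : p.Prime) (hL : (p : L) = 0) [Fintype (L ≃+* L)] (X : R) :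
    ∑ σ : L ≃+* L, proj φ σ X = X := by
  classical
  have := Fact.mk hp
  have : CharP L p := (CharP.charP_iff_prime_eq_zero hp).2 hL
  let := ZMod.algebra L p
  let := Fintype.ofFinite Lˣ
  let eq : Gal(L/ZMod p) ≃ (L ≃+* L) :=
    { toFun := fun τ => τ.toRingEquiv
      invFun := fun σ => AlgEquiv.ofRingEquiv (f := σ) fun x =>
        RingHom.congr_fun (RingHom.ext_zmod ((σ : L →+* L).comp (algebraMap (ZMod p) L)) (algebraMap (ZMod p) L)) x
      left_inv := fun τ => AlgEquiv.ext fun x => rfl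
      right_inv := fun σ => RingEquiv.ext fun x => rfl }
  have hcomm : ∀ (y : L), φ (∑ σ : L ≃+* L, σ y) * X = X * φ (∑ σ : L ≃+* L, σ y) := by
    intro y
    rw [← eq.sum_comp (fun σ : L ≃+* L => σ y),
      show ∑ i, eq i y = algebraMap (ZMod p) L (Algebra.trace (ZMod p) L y) from
        (trace_eq_sum_automorphisms y).symm,
      ← ZMod.natCast_zmod_val (Algebra.trace (ZMod p) L y), map_natCast, map_natCast]
    exact Nat.cast_commute _ _
  calc ∑ σ : L ≃+* L, proj φ σ X = -∑ e : Lˣ, X * φ ((∑ σ : L ≃+* L, σ ((e : L)⁻¹)) * (e : L)) := by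
        simp only [proj, Finset.sum_neg_distrib]
        rw [Finset.sum_comm]
        congr 1
        refine Finset.sum_congr rfl fun e _ => ?_
        rw [map_mul, ← mul_assoc, ← hcomm, map_sum, Finset.sum_mul, Finset.sum_mul]
        simp [map_inv₀]
    _ = X * φ (-∑ σ : L ≃+* L, ∑ e : Lˣ, σ ((e : L)⁻¹) * (e : L)) := by
        rw [← Finset.mul_sum, ← map_sum, map_neg, mul_neg]
        congr 2
        simp only [Finset.sum_mul]
        rw [Finset.sum_comm]
    _ = X := by
        have h : ∀ σ : L ≃+* L, ∑ e : Lˣ, σ ((e : L)⁻¹) * (e : L) = if (1 : L ≃+* L) = σ then -1 else 0 := by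
          intro σ
          rw [← sum_units_ratio]
          exact Finset.sum_congr rfl fun e _ => by rw [map_inv₀, mul_comm]; rfl
        simp only [h, Finset.sum_ite_eq, Finset.mem_univ, if_true, neg_neg, map_one, mul_one]

/-- A sum invariant under an involution of the index set. -/
theorem sum_mem_of_involution {ι : Type*} [Fintype ι] (T : AddSubgroup R) (f : ι → R) (κ : ι → ι)
    (hκ : ∀ i, κ (κ i) = i) (h1 : ∀ i, f i + f (κ i) ∈ T) (h2 : ∀ i, κ i = i → f i ∈ T) :
    ∑ i, f i ∈ T := by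
  classical
  suffices h : ∀ A : Finset ι, (∀ i ∈ A, κ i ∈ A) → ∑ i ∈ A, f i ∈ T from h _ fun i _ => Finset.mem_univ _
  intro A
  induction A using Finset.strongInduction with
  | _ A ih =>
    intro hA
    rcases A.eq_empty_or_nonempty with rfl | ⟨i, hi⟩
    · rw [Finset.sum_empty]; exact zero_mem T
    set B := (A.erase i).erase (κ i) with hB
    have hlt : B ⊂ A := (Finset.erase_subset _ _).trans_ssubset (Finset.erase_ssubset hi)
    have hBT : ∑ j ∈ B, f j ∈ T := ih B hlt fun j hj => by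
      simp only [hB, Finset.mem_erase] at hj ⊢
      refine ⟨fun e => hj.2.1 ?_, fun e => hj.1 ?_, hA j hj.2.2⟩
      · have := congrArg κ e
        rwa [hκ, hκ] at this
      · rw [← e, hκ]
    by_cases hfix : κ i = i
    · rw [← Finset.add_sum_erase A f hi]
      refine add_mem (h2 i hfix) ?_
      have : B = A.erase i := by rw [hB, hfix, Finset.erase_idem]
      rwa [← this]
    · rw [← Finset.add_sum_erase A f hi,
        ← Finset.add_sum_erase (A.erase i) f (Finset.mem_erase.2 ⟨hfix, hA i hi⟩), ← hB, ← add_assoc]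
      exact add_mem (h1 i) hBT

/-- The projections with `σ² = 1` preserve `S`. -/
theorem Closed.proj_mem (h : Closed p S) (hφ : ∀ y, φ y ∈ S) {σ : L ≃+* L} (hσ : ∀ y, σ (σ y) = y) {X : R}
    (hX : X ∈ S) : proj φ σ X ∈ S := by
  let := Fintype.ofFinite Lˣ
  refine neg_mem ?_
  let κ : Lˣ → Lˣ := fun e => (Units.map (σ : L →* L) e)⁻¹
  have hval : ∀ e : Lˣ, ((κ e : Lˣ) : L) = (σ (e : L))⁻¹ := fun e => by simp [κ]
  have hσκ : ∀ e : Lˣ, (σ ((κ e : Lˣ) : L))⁻¹ = (e : L) := fun e => by rw [hval, map_inv₀, hσ, inv_inv]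
  refine sum_mem_of_involution S _ κ (fun e => Units.ext (by rw [hval, hσκ])) (fun e => ?_) fun e he => ?_
  · simp only [hσκ]
    rw [hval]
    exact h.polar (hφ _) hX (hφ _)
  · have he' : (σ (e : L))⁻¹ = (e : L) := by rw [← hval, he]
    simp only [he']
    exact h.aba _ (hφ _) _ hX

/-- The sum of the projections for `σ` and `σ⁻¹` preserves `S`. -/
theorem Closed.proj_add_proj_mem (h : Closed p S) (hφ : ∀ y, φ y ∈ S) (σ : L ≃+* L) {X : R}
    (hX : X ∈ S) : proj φ σ X + proj φ σ⁻¹ X ∈ S := by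
  let := Fintype.ofFinite Lˣ
  simp only [proj]
  rw [← neg_add]
  refine neg_mem ?_
  let κ : Lˣ ≃ Lˣ := ((Units.mapEquiv σ.toMulEquiv).toEquiv).trans (Equiv.inv Lˣ)
  have hval : ∀ e : Lˣ, ((κ e : Lˣ) : L) = (σ (e : L))⁻¹ := fun e => by simp [κ]
  rw [← κ.sum_comp (fun e : Lˣ => φ ((σ⁻¹) (e : L))⁻¹ * X * φ (e : L)), ← Finset.sum_add_distrib]
  refine sum_mem fun e _ => ?_
  rw [hval, map_inv₀ σ⁻¹, inv_inv, show (σ⁻¹) (σ (e : L)) = (e : L) from σ.symm_apply_apply _]
  exact h.polar (hφ _) hX (hφ _)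

end Field

end Cfsg.Agent.JordanDiv
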