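import Cfsg.Agent.Lib.JordanDiv.Pair

/-!
A finite division Jordan subgroup of the endomorphisms of a finite abelian group is a field:
`Closed.comm`, `Closed.exists_field`.
-/

set_option autoImplicit false

namespace Cfsg.Agent.JordanDiv

variable {K : Type*} [AddCommGroup K] [Finite K] {p : ℕ}

/-- A commutative subring whose nonzero members have inverses inside is a field. -/
theorem isField_subring [Nontrivial K] {E : Subring (AddMonoid.End K)}
    (hcomm : ∀ a ∈ E, ∀ b ∈ E, a * b = b * a) (hinv : ∀ a ∈ E, a ≠ 0 → ∃ b ∈ E, a * b = 1) : IsField ↥E := by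
  obtain ⟨w, hw⟩ := exists_ne (0 : K)
  refine ⟨⟨1, 0, fun e => hw (DFunLike.congr_fun (congrArg Subtype.val e) w)⟩,
    fun a b => Subtype.ext (hcomm _ a.2 _ b.2), fun {a} ha => ?_⟩
  obtain ⟨b, hb, hab⟩ := hinv a.1 a.2 fun e => ha (Subtype.ext e)
  exact ⟨⟨b, hb⟩, Subtype.ext hab⟩

/-- The members commuting with the set `T`, as a subgroup. -/
def commOf (S : AddSubgroup (AddMonoid.End K)) (T : Set (AddMonoid.End K)) : AddSubgroup (AddMonoid.End K) where
  carrier := {x | x ∈ S ∧ ∀ y ∈ T, Commute x y}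
  zero_mem' := ⟨zero_mem S, fun y _ => Commute.zero_left y⟩
  add_mem' := fun {a b} ha hb => ⟨add_mem ha.1 hb.1, fun y hy => (ha.2 y hy).add_left (hb.2 y hy)⟩
  neg_mem' := fun {a} ha => ⟨neg_mem ha.1, fun y hy => (ha.2 y hy).neg_left⟩

omit [Finite K] in
theorem Closed.commOf_closed {S : AddSubgroup (AddMonoid.End K)} (h : Closed p S) (T : Set (AddMonoid.End K)) :
    Closed p (commOf S T) where
  prime := h.prime
  char := h.char
  one_mem := ⟨h.one_mem, fun y _ => Commute.one_left y⟩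
  inv := by
    rintro s ⟨hs, hsT⟩ hs0
    obtain ⟨t, ht, h1, h2⟩ := h.inv s hs hs0
    refine ⟨t, ⟨ht, fun y hy => ?_⟩, h1, h2⟩
    show t * y = y * t
    calc t * y = t * y * (s * t) := by rw [h1, mul_one]
      _ = t * (y * s) * t := by simp [mul_assoc]
      _ = t * (s * y) * t := by rw [(hsT y hy).eq]
      _ = t * s * (y * t) := by simp [mul_assoc]
      _ = y * t := by rw [h2, one_mul]
  aba := fun a ha b hb => ⟨h.aba a ha.1 b hb.1, fun y hy =>
    ((ha.2 y hy).mul_left (hb.2 y hy)).mul_left (ha.2 y hy)⟩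

/-- A division Jordan subgroup is commutative. -/
theorem Closed.comm [Nontrivial K] : ∀ (n : ℕ) {S : AddSubgroup (AddMonoid.End K)} (_ : Closed p S) (_ : Nat.card ↥S = n),
    ∀ a ∈ S, ∀ b ∈ S, a * b = b * a := by
  intro n
  induction n using Nat.strong_induction_on with
  | _ n ih =>
  intro S h hn
  classical
  have : Finite (AddMonoid.End K) := finite_end
  obtain ⟨T, ⟨hTS, hTc⟩, hmax⟩ := (Set.toFinite {T : Set (AddMonoid.End K) | T ⊆ S ∧ ∀ a ∈ T, ∀ b ∈ T, a * b = b * a}).exists_maximal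
    ⟨∅, Set.empty_subset _, fun a ha => absurd ha (Set.notMem_empty a)⟩
  have hC : ∀ x ∈ S, (∀ y ∈ T, Commute x y) → x ∈ T := by
    intro x hx hxT
    refine hmax (y := insert x T) ⟨Set.insert_subset hx hTS, ?_⟩ (Set.subset_insert x T) (Set.mem_insert x T)
    rintro a (rfl | ha) b (rfl | hb)
    · rfl
    · exact hxT b hb
    · exact (hxT a ha).symm
    · exact hTc a ha b hb
  have hTmem : ∀ {x}, x ∈ T → ∀ y ∈ T, Commute x y := fun hx y hy => hTc _ hx y hy
  let E : Subring (AddMonoid.End K) :=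
    { carrier := T
      mul_mem' := fun {a b} ha hb => hC _ (h.mul_mem (hTS ha) (hTS hb) (hTc a ha b hb))
        fun y hy => (hTmem ha y hy).mul_left (hTmem hb y hy)
      one_mem' := hC _ h.one_mem fun y _ => Commute.one_left y
      add_mem' := fun {a b} ha hb => hC _ (add_mem (hTS ha) (hTS hb))
        fun y hy => (hTmem ha y hy).add_left (hTmem hb y hy)
      zero_mem' := hC _ (zero_mem S) fun y _ => Commute.zero_left y
      neg_mem' := fun {a} ha => hC _ (neg_mem (hTS ha)) fun y hy => (hTmem ha y hy).neg_left }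
  letI : Field ↥E := IsField.toField (isField_subring (E := E) hTc fun a ha ha0 => by
    obtain ⟨t, ⟨htS, htT⟩, h1, -⟩ := (h.commOf_closed T).inv a ⟨hTS ha, hTmem ha⟩ ha0
    exact ⟨t, hC t htS htT, h1⟩)
  have hfinE : Finite ↥E := Subtype.finite
  set φ : ↥E →+* AddMonoid.End K := E.subtype with hφdef
  have hφS : ∀ x : ↥E, φ x ∈ S := fun x => hTS x.2
  by_cases hall : ∀ x ∈ S, x ∈ T
  · exact fun a ha b hb => hTc a (hall a ha) b (hall b hb)
  exfalso
  push Not at hall
  obtain ⟨x₀, hx₀, hx₀T⟩ := hall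
  have hcent : ∀ x ∈ S, (∀ y, Commute x (φ y)) → ∃ y, x = φ y := fun x hx hxc =>
    ⟨⟨x, hC x hx fun y hy => hxc ⟨y, hy⟩⟩, rfl⟩
  have : Finite (↥E ≃+* ↥E) := finite_ringAut
  let := Fintype.ofFinite (↥E ≃+* ↥E)
  have hpE : (p : ↥E) = 0 := Subtype.ext (by simpa using h.char)
  obtain ⟨σ, hσ1, hσ0⟩ : ∃ σ : ↥E ≃+* ↥E, σ ≠ 1 ∧ proj φ σ x₀ ≠ 0 := by
    by_contra hcon
    push Not at hcon
    obtain ⟨y, hy⟩ := proj_one_mem h hφS hcent hx₀
    refine hx₀T ?_
    rw [← sum_proj h.prime hpE (φ := φ) x₀, Finset.sum_eq_single 1 (fun σ _ hσ => hcon σ hσ) (by simp), hy]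
    exact y.2
  obtain ⟨u, v, hu, hv, hs, hu0, hv0⟩ : ∃ u v, IsEig φ σ u ∧ IsEig φ σ⁻¹ v ∧ u + v ∈ S ∧ u ≠ 0 ∧
      (σ⁻¹ = σ → v = 0) := by
    by_cases hinv : σ⁻¹ = σ
    · refine ⟨proj φ σ x₀, 0, proj_isEig σ x₀, fun e => by simp, ?_, hσ0, fun _ => rfl⟩
      rw [add_zero]
      refine h.proj_mem hφS (fun y => ?_) hx₀
      nth_rewrite 1 [← hinv]
      exact σ.symm_apply_apply y
    · exact ⟨_, _, proj_isEig σ x₀, proj_isEig σ⁻¹ x₀, h.proj_add_proj_mem hφS σ hx₀, hσ0, fun e => absurd e hinv⟩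
  rcases Nat.even_or_odd (orderOf σ) with heven | hodd
  swap
  · exact not_odd_pair h hφS hcent hσ1 hodd hu hv hs hu0
  obtain ⟨r, hr⟩ := heven
  have hr0 : 0 < r := by have := orderOf_pos σ; omega
  -- a field element fixed by `σ²` and moved by `σ`
  obtain ⟨y, hy⟩ : ∃ y : ↥E, σ (∑ i ∈ Finset.range r, (σ ^ (2 * i)) y) ≠ ∑ i ∈ Finset.range r, (σ ^ (2 * i)) y := by
    by_contra hcon
    push Not at hcon
    have hsum : ∀ y : ↥E, ∑ j : Fin (2 * r), (σ ^ (j : ℕ)) y • ((-1 : ↥E) ^ (j : ℕ)) = 0 := by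
      intro y
      rw [Fin.sum_univ_eq_sum_range (fun j => (σ ^ j) y • ((-1 : ↥E) ^ j))]
      have key : ∀ k, ∑ j ∈ Finset.range (2 * k), (σ ^ j) y • ((-1 : ↥E) ^ j) =
          (∑ i ∈ Finset.range k, (σ ^ (2 * i)) y) - σ (∑ i ∈ Finset.range k, (σ ^ (2 * i)) y) := by
        intro k
        induction k with
        | zero => simp
        | succ k ihk =>
          rw [show 2 * (k + 1) = 2 * k + 1 + 1 by ring, Finset.sum_range_succ, Finset.sum_range_succ,
            Finset.sum_range_succ (fun i => (σ ^ (2 * i)) y), ihk, map_add, pow_succ_apply,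
            pow_succ (-1 : ↥E), (even_two_mul k).neg_one_pow]
          simp only [smul_eq_mul]
          ring
      rw [key, hcon, sub_self]
    have := eq_zero_of_forall_sum (L := ↥E) (M := ↥E) (fun j : Fin (2 * r) => σ ^ (j : ℕ))
      (fun i j e => Fin.ext (pow_injOn_Iio_orderOf (by rw [Set.mem_Iio]; omega) (by rw [Set.mem_Iio]; omega) e))
      _ hsum ⟨0, by omega⟩
    simp at this
  set ε := ∑ i ∈ Finset.range r, (σ ^ (2 * i)) y with hε
  have hε2 : σ (σ ε) = ε := by
    have h1 : ∀ i, σ (σ ((σ ^ (2 * i)) y)) = (σ ^ (2 * (i + 1))) y := fun i => by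
      rw [show 2 * (i + 1) = 2 * i + 1 + 1 by ring, pow_succ_apply, pow_succ_apply]
    rw [hε, map_sum, map_sum]
    simp only [h1]
    have h2 := Finset.sum_range_succ' (fun i => (σ ^ (2 * i)) y) r
    rw [Finset.sum_range_succ, show (σ ^ (2 * r)) y = (σ ^ (2 * 0)) y by
      rw [two_mul r, ← hr, pow_orderOf_eq_one, mul_zero, pow_zero]] at h2
    exact (add_right_cancel h2).symm
  have hsymm : ∀ z, σ (σ z) = z → σ.symm z = σ z := fun z hz => by
    conv_lhs => rw [← hz]
    exact σ.symm_apply_apply _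
  set s := u + v with hsdef
  have hsε : ∀ z, σ (σ z) = z → s * φ z = φ (σ z) * s := fun z hz => by
    rw [hsdef, add_mul, mul_add, hu, hv]
    show _ + φ (σ.symm z) * v = _
    rw [hsymm z hz]
  have hnot : s ∉ commOf S {φ ε} := by
    rintro ⟨-, hc⟩
    have h1 : s * φ ε = φ ε * s := hc (φ ε) rfl
    rw [hsε ε hε2] at h1
    have hs0 : s = 0 := by
      refine map_mul_eq_zero φ (σ ε - ε) (sub_ne_zero.2 hy) s ?_
      rw [map_sub, sub_mul, h1, sub_self]
    by_cases hi : σ⁻¹ = σ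
    · exact hu0 (by rw [hsdef, hv0 hi, add_zero] at hs0; exact hs0)
    · refine hu0 ?_
      have := congrArg (proj φ σ) hs0
      rwa [hsdef, proj_add, proj_self hu, proj_eq_zero hv hi, add_zero, proj_zero] at this
  have hlt : Nat.card ↥(commOf S {φ ε}) < n := by
    rw [← hn]
    refine lt_of_le_of_ne (Nat.card_le_card_of_injective (fun x => (⟨x.1, x.2.1⟩ : ↥S))
      fun a b e => Subtype.ext (congrArg Subtype.val e :)) fun e => hnot ?_
    have hbij := (Nat.bijective_iff_injective_and_card (fun x : ↥(commOf S {φ ε}) => (⟨x.1, x.2.1⟩ : ↥S))).2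
      ⟨fun a b e => Subtype.ext (congrArg Subtype.val e :), e⟩
    obtain ⟨x, hx⟩ := hbij.2 ⟨s, hs⟩
    have hx' : x.1 = s := congrArg Subtype.val hx
    rw [← hx']; exact x.2
  have hss : s * s ∈ commOf S {φ ε} := by
    refine ⟨by simpa [pow_two] using h.pow_mem hs 2, fun z hz => ?_⟩
    obtain rfl := Set.mem_singleton_iff.1 hz
    show s * s * φ ε = φ ε * (s * s)
    rw [mul_assoc, hsε ε hε2, ← mul_assoc, hsε (σ ε) (by rw [hε2]), hε2, mul_assoc]
  obtain ⟨g, hg⟩ := hcent (s * s) hss.1 fun z => ih _ hlt (h.commOf_closed _) rfl (s * s) hss (φ z)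
    ⟨hφS z, fun w hw => by
      obtain rfl := Set.mem_singleton_iff.1 hw
      show φ z * φ ε = φ ε * φ z
      rw [← map_mul, mul_comm, map_mul]⟩
  have hgs : s * φ g = φ g * s := by rw [← hg, mul_assoc]
  have hgfix : σ g = g := by
    refine eq_zero_of_comm_pair (map_mul_eq_zero φ) hu hu0 ?_
    by_cases hi : σ⁻¹ = σ
    · rw [show u = s by rw [hsdef, hv0 hi, add_zero]]
      exact hgs
    · have := congrArg (proj φ σ) hgs
      rw [hsdef, add_mul, mul_add, hv, proj_add, proj_add, proj_eq_zero (hv.left_mul _) hi,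
        proj_eq_zero (hv.left_mul _) hi, add_zero, add_zero, proj_self (hu.left_mul g), hu,
        proj_self (hu.left_mul _)] at this
      rw [hu]; exact this
  have hs0 : s ≠ 0 := fun e => hnot (e ▸ zero_mem _)
  have hg0 : g ≠ 0 := by
    intro e
    rw [e, map_zero] at hg
    exact hs0 (h.eq_zero_of_mul hs hs0 hg)
  obtain ⟨β, -, hβ⟩ := exists_nm_eq σ hgfix hg0
  set ε' := ∏ i ∈ Finset.range r, (σ ^ (2 * i)) β with hε'
  have hε'2 : σ (σ ε') = ε' := by
    have h1 : ∀ i, σ (σ ((σ ^ (2 * i)) β)) = (σ ^ (2 * (i + 1))) β := fun i => by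
      rw [show 2 * (i + 1) = 2 * i + 1 + 1 by ring, pow_succ_apply, pow_succ_apply]
    rw [hε', map_prod, map_prod]
    simp only [h1]
    obtain ⟨r', rfl⟩ : ∃ r', r = r' + 1 := ⟨r - 1, by omega⟩
    rw [Finset.prod_range_succ, show (σ ^ (2 * (r' + 1))) β = (σ ^ (2 * 0)) β by
      rw [two_mul (r' + 1), ← hr, pow_orderOf_eq_one, mul_zero, pow_zero], Finset.prod_range_succ' (fun i => (σ ^ (2 * i)) β)]
  have hεg : ε' * σ ε' = g := by
    rw [← hβ, hr, nm, hε', map_prod, ← Finset.prod_mul_distrib, ← two_mul]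
    have key : ∀ k, ∏ i ∈ Finset.range k, ((σ ^ (2 * i)) β * σ ((σ ^ (2 * i)) β)) =
        ∏ j ∈ Finset.range (2 * k), (σ ^ j) β := by
      intro k
      induction k with
      | zero => simp
      | succ k ihk =>
        rw [show 2 * (k + 1) = 2 * k + 1 + 1 by ring, Finset.prod_range_succ, Finset.prod_range_succ _ (2 * k + 1),
          Finset.prod_range_succ _ (2 * k), ihk, pow_succ_apply, mul_assoc]
    exact key r
  have hprod : (φ ε' - s) * (φ (σ ε') + s) = 0 := by
    have h1 : s * φ (σ ε') = φ ε' * s := by rw [hsε (σ ε') (by rw [hε'2]), hε'2]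
    rw [sub_mul, mul_add (φ ε'), mul_add s (φ (σ ε')), ← map_mul, hεg, h1, hg, add_comm (φ g), sub_self]
  have hne : φ ε' - s ≠ 0 := fun e => hnot ⟨hs, fun z hz => by
    obtain rfl := Set.mem_singleton_iff.1 hz
    show s * φ ε = φ ε * s
    rw [← sub_eq_zero.1 e, ← map_mul, mul_comm, map_mul]⟩
  have hne' : φ (σ ε') + s ≠ 0 := fun e => hnot ⟨hs, fun z hz => by
    obtain rfl := Set.mem_singleton_iff.1 hz
    show s * φ ε = φ ε * s
    rw [eq_neg_of_add_eq_zero_right e, ← map_neg, ← map_mul, mul_comm, map_mul]⟩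
  exact hne' (h.eq_zero_of_mul (sub_mem (hφS ε') hs) hne hprod)

/-- A division Jordan subgroup is a field. -/
theorem Closed.exists_field [Nontrivial K] {S : AddSubgroup (AddMonoid.End K)} (h : Closed p S) :
    ∃ E : Subring (AddMonoid.End K), (∀ x, x ∈ E ↔ x ∈ S) ∧ IsField ↥E ∧
      ∀ a ∈ E, ∀ b ∈ E, a * b = b * a := by
  have : Finite (AddMonoid.End K) := finite_end
  have hc := Closed.comm _ h rfl
  let E : Subring (AddMonoid.End K) :=
    { S with
      mul_mem' := fun {a b} ha hb => h.mul_mem ha hb (hc a ha b hb)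
      one_mem' := h.one_mem }
  exact ⟨E, fun x => Iff.rfl, isField_subring (E := E) hc fun a ha ha0 => by
    obtain ⟨t, ht, h1, -⟩ := h.inv a ha ha0
    exact ⟨t, ht, h1⟩, hc⟩

end Cfsg.Agent.JordanDiv
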