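import Cfsg.Agent.Lib.JordanDiv.Closed

/-!
Semilinear operators on a finite abelian group.

* `exists_eigvec`: a vector with `u w = β w`, given `u^m w₀ = N(β) w₀`
* `apply_eq_zero`: the singular element built from such a vector
-/

set_option autoImplicit false

namespace Cfsg.Agent.JordanDiv

variable {K : Type*} [AddCommGroup K] {L : Type*} [Field L] [Finite L]

theorem mul_app (a b : AddMonoid.End K) (x : K) : (a * b) x = a (b x) := rfl

theorem exists_eigvec (φ : L →+* AddMonoid.End K) {σ : L ≃+* L} {u : AddMonoid.End K} (hu : IsEig φ σ u)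
    {w₀ : K} (hw₀ : w₀ ≠ 0) {lam β : L} (hlam : (u ^ orderOf σ) w₀ = φ lam w₀)
    (hβ : nm σ (orderOf σ) β = lam) (hβ0 : β ≠ 0) :
    ∃ w : K, w ≠ 0 ∧ u w = φ β w := by
  have : Finite (L ≃+* L) := finite_ringAut
  letI : Module L K := Module.compHom K φ
  set m := orderOf σ with hm
  have hm0 : 0 < m := orderOf_pos σ
  set u' := φ β⁻¹ * u with hu'
  have hu'e : IsEig φ σ u' := hu.left_mul _
  have hu'm : (u' ^ m) w₀ = w₀ := by
    rw [hu', hu.mul_pow_eq, mul_app, hlam, ← mul_app, ← map_mul, nm_inv, hβ,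
      inv_mul_cancel₀ (hβ ▸ nm_ne_zero σ m hβ0), map_one]
    rfl
  let w : L → K := fun e => ∑ i : Fin m, (u' ^ (i : ℕ)) (φ e w₀)
  have hwu : ∀ e, u' (w e) = w e := fun e => by
    show u' (∑ i : Fin m, (u' ^ (i : ℕ)) (φ e w₀)) = ∑ i : Fin m, (u' ^ (i : ℕ)) (φ e w₀)
    rw [map_sum, Fin.sum_univ_eq_sum_range (fun i => u' ((u' ^ i) (φ e w₀))),
      Fin.sum_univ_eq_sum_range (fun i => (u' ^ i) (φ e w₀))]
    have hshift : ∀ i, u' ((u' ^ i) (φ e w₀)) = (u' ^ (i + 1)) (φ e w₀) := fun i => by rw [pow_succ']; rfl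
    have hend : (u' ^ m) (φ e w₀) = (u' ^ 0) (φ e w₀) := by
      rw [← mul_app, hu'e.pow m e, hm, pow_orderOf_eq_one, ← hm, mul_app, hu'm, pow_zero]
      rfl
    simp only [hshift]
    have h1 := Finset.sum_range_succ' (fun i => (u' ^ i) (φ e w₀)) m
    rw [Finset.sum_range_succ, hend] at h1
    exact add_right_cancel h1.symm
  obtain ⟨e, he⟩ : ∃ e, w e ≠ 0 := by
    by_contra hcon
    push Not at hcon
    refine hw₀ ?_
    have := eq_zero_of_forall_sum (M := K) (fun i : Fin m => σ ^ (i : ℕ))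
      (fun i j h => Fin.ext (pow_injOn_Iio_orderOf i.2 j.2 h)) (fun i => (u' ^ (i : ℕ)) w₀)
      (fun e => (Finset.sum_congr rfl fun i _ => by
        show φ ((σ ^ (i : ℕ)) e) ((u' ^ (i : ℕ)) w₀) = (u' ^ (i : ℕ)) (φ e w₀)
        rw [← mul_app, ← hu'e.pow i e, mul_app]).trans (hcon e)) ⟨0, hm0⟩
    simpa using this
  refine ⟨w e, he, ?_⟩
  have h := congrArg (φ β) (hwu e)
  rw [hu', mul_app, ← mul_app (φ β), ← map_mul, mul_inv_cancel₀ hβ0, map_one] at h
  exact h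

theorem apply_eq_zero (φ : L →+* AddMonoid.End K) {σ : L ≃+* L} {u v : AddMonoid.End K} (hu : IsEig φ σ u)
    {c β : L} (hc : v * u = φ c) {w : K} (hw : u w = φ β w) (hβ0 : β ≠ 0) :
    (φ (-(σ β + c * β⁻¹)) + (u + v)) (u w) = 0 := by
  show φ (-(σ β + c * β⁻¹)) (u w) + (u (u w) + v (u w)) = 0
  have h1 : u (u w) = φ (σ β * β) w := by rw [hw, ← mul_app, hu β, mul_app, hw, ← mul_app, ← map_mul]
  have h2 : v (u w) = φ c w := by rw [← mul_app, hc]
  rw [h2, h1, hw, ← mul_app, ← map_mul, show -(σ β + c * β⁻¹) * β = -(σ β * β + c) by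
    rw [neg_mul, add_mul, inv_mul_cancel_right₀ hβ0], map_neg, map_add]
  show -(φ (σ β * β) w + φ c w) + (φ (σ β * β) w + φ c w) = 0
  exact neg_add_cancel _

theorem apply_ne_zero (φ : L →+* AddMonoid.End K) {u : AddMonoid.End K} {β : L} {w : K} (hw : u w = φ β w)
    (hw0 : w ≠ 0) (hβ0 : β ≠ 0) : u w ≠ 0 := fun h => hw0 <| by
  have := congrArg (φ β⁻¹) (hw.symm.trans h)
  rwa [← mul_app, ← map_mul, inv_mul_cancel₀ hβ0, map_one, map_zero] at this

end Cfsg.Agent.JordanDiv
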