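import Cfsg.Agent.EqLemmas

/-!
Automorphisms of finite fields.

* `sum_units_ratio`, `eq_zero_of_forall_sum`: orthogonality of automorphisms
* `nm`, `nm_fixed`, `exists_nm_eq`: the norm `∏_{i<m} σ^i` of an automorphism of order `m` is onto
-/

set_option autoImplicit false

namespace Cfsg.Agent.JordanDiv

variable {L : Type*} [Field L] [Finite L]

theorem finite_ringAut : Finite (L ≃+* L) :=
  Finite.of_injective (fun σ : L ≃+* L => (σ : L → L)) DFunLike.coe_injective

open scoped Classical in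
theorem sum_units_ratio [Fintype Lˣ] (σ τ : L ≃+* L) :
    ∑ e : Lˣ, σ (e : L) * (τ (e : L))⁻¹ = if σ = τ then -1 else 0 := by
  let f : Lˣ →* L :=
    { toFun := fun e => σ (e : L) * (τ (e : L))⁻¹
      map_one' := by simp
      map_mul' := fun a b => by simp [map_mul]; ring }
  have hf : f = 1 ↔ σ = τ := by
    constructor
    · intro h
      refine RingEquiv.ext fun x => ?_
      by_cases hx : x = 0
      · simp [hx]
      · have := DFunLike.congr_fun h (Units.mk0 x hx)
        have hτ : τ x ≠ 0 := by simpa using hx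
        calc σ x = σ x * (τ x)⁻¹ * τ x := by rw [inv_mul_cancel_right₀ hτ]
          _ = τ x := by rw [show σ x * (τ x)⁻¹ = 1 from this, one_mul]
    · rintro rfl
      exact MonoidHom.ext fun e => mul_inv_cancel₀ (by simp)
  show ∑ e : Lˣ, f e = _
  rw [sum_hom_units, Nat.cast_ite, Nat.cast_zero]
  by_cases h : σ = τ
  · rw [if_pos h, if_pos (hf.2 h)]
    have := Fintype.ofFinite L
    rw [← Nat.card_eq_fintype_card, Nat.card_units, Nat.card_eq_fintype_card, Nat.cast_sub Fintype.card_pos,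
      FiniteField.cast_card_eq_zero, Nat.cast_one, zero_sub]
  · rw [if_neg h, if_neg (mt hf.1 h)]

/-- Distinct automorphisms are independent, with coefficients in a vector space. -/
theorem eq_zero_of_forall_sum {ι M : Type*} [Fintype ι] [AddCommGroup M] [Module L M] (σ : ι → L ≃+* L)
    (hσ : Function.Injective σ) (w : ι → M) (h : ∀ e : L, ∑ i, σ i e • w i = 0) (j : ι) : w j = 0 := by
  classical
  have := Fintype.ofFinite Lˣ
  have h1 : ∑ e : Lˣ, (σ j (e : L))⁻¹ • ∑ i, σ i (e : L) • w i = 0 :=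
    Finset.sum_eq_zero fun e _ => by rw [h, smul_zero]
  simp only [Finset.smul_sum, smul_smul] at h1
  rw [Finset.sum_comm] at h1
  have h2 : ∀ i, ∑ e : Lˣ, ((σ j (e : L))⁻¹ * σ i (e : L)) • w i = (if i = j then -1 else 0 : L) • w i := by
    intro i
    rw [← Finset.sum_smul]
    congr 1
    rw [Finset.sum_congr rfl fun e _ => mul_comm _ _, sum_units_ratio]
    exact if_congr hσ.eq_iff rfl rfl
  simp only [h2] at h1
  rw [Finset.sum_eq_single j (fun i _ hi => by rw [if_neg hi, zero_smul]) (by simp)] at h1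
  rwa [if_pos rfl, neg_one_smul, neg_eq_zero] at h1

/-- `∏_{i<m} σ^i y`. -/
def nm (σ : L ≃+* L) (m : ℕ) (y : L) : L := ∏ i ∈ Finset.range m, (σ ^ i) y

omit [Finite L] in
theorem pow_succ_apply (σ : L ≃+* L) (i : ℕ) (y : L) : (σ ^ (i + 1)) y = σ ((σ ^ i) y) := by
  rw [pow_succ']; rfl

omit [Finite L] in
theorem pow_succ_apply' (σ : L ≃+* L) (i : ℕ) (y : L) : (σ ^ (i + 1)) y = (σ ^ i) (σ y) := by
  rw [pow_succ]; rfl

omit [Finite L] in
theorem nm_mul (σ : L ≃+* L) (m : ℕ) (a b : L) : nm σ m (a * b) = nm σ m a * nm σ m b := by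
  simp [nm, Finset.prod_mul_distrib]

omit [Finite L] in
theorem nm_inv (σ : L ≃+* L) (m : ℕ) (a : L) : nm σ m a⁻¹ = (nm σ m a)⁻¹ := by
  simp [nm, map_inv₀]

omit [Finite L] in
theorem nm_one (σ : L ≃+* L) (m : ℕ) : nm σ m 1 = 1 := by simp [nm]

omit [Finite L] in
theorem nm_succ (σ : L ≃+* L) (m : ℕ) (y : L) : nm σ (m + 1) y = y * σ (nm σ m y) := by
  rw [nm, Finset.prod_range_succ', mul_comm, nm, map_prod]
  simp [pow_succ_apply]

omit [Finite L] in
theorem nm_ne_zero (σ : L ≃+* L) (m : ℕ) {a : L} (ha : a ≠ 0) : nm σ m a ≠ 0 :=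
  Finset.prod_ne_zero_iff.2 fun i _ => (map_ne_zero (σ ^ i)).2 ha

omit [Finite L] in
theorem nm_fixed {σ : L ≃+* L} {m : ℕ} (hm : σ ^ m = 1) (y : L) : σ (nm σ m y) = nm σ m y := by
  rcases Nat.eq_zero_or_pos m with rfl | hpos
  · simp [nm]
  obtain ⟨k, rfl⟩ : ∃ k, m = k + 1 := ⟨m - 1, by omega⟩
  rw [nm, map_prod, Finset.prod_range_succ, Finset.prod_range_succ' (fun i => (σ ^ i) y)]
  congr 1
  · exact Finset.prod_congr rfl fun i _ => (pow_succ_apply σ i y).symm
  · rw [← pow_succ_apply, hm, pow_zero]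

omit [Finite L] in
theorem nm_apply {σ : L ≃+* L} {m : ℕ} (hm : σ ^ m = 1) (y : L) : nm σ m (σ y) = nm σ m y := by
  conv_rhs => rw [← nm_fixed hm y]
  rw [nm, nm, map_prod]
  exact Finset.prod_congr rfl fun i _ => by rw [← pow_succ_apply, pow_succ_apply']

omit [Finite L] in
theorem nm_neg_one (σ : L ≃+* L) {m : ℕ} (hm : Odd m) : nm σ m (-1) = -1 := by
  simp [nm, hm.neg_one_pow]

omit [Finite L] in
theorem nm_of_fixed (σ : L ≃+* L) (m : ℕ) {d : L} (hd : σ d = d) : nm σ m d = d ^ m := by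
  have h : ∀ i, (σ ^ i) d = d := fun i => by
    induction i with
    | zero => rfl
    | succ i ih => rw [pow_succ_apply, ih, hd]
  simp [nm, h]

/-- The norm onto the fixed field is surjective. -/
theorem exists_nm_eq (σ : L ≃+* L) {y : L} (hy : σ y = y) (hy0 : y ≠ 0) :
    ∃ β : L, β ≠ 0 ∧ nm σ (orderOf σ) β = y := by
  classical
  have : Finite (L ≃+* L) := finite_ringAut
  let H : Subgroup (L ≃+* L) := Subgroup.zpowers σ
  let F₀ := FixedPoints.subfield ↥H L
  have hyF : y ∈ F₀ := by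
    rintro ⟨h, hh⟩
    show h y = y
    have hle : H ≤ MulAction.stabilizer (L ≃+* L) y := (Subgroup.zpowers_le).2 (show σ • y = y from hy)
    exact hle hh
  obtain ⟨β, hβ⟩ := FiniteField.norm_surjective (K := ↥F₀) (K' := L) ⟨y, hyF⟩
  have h := Algebra.norm_eq_prod_automorphisms (↥F₀) β
  rw [hβ] at h
  change y = _ at h
  have hprod : ∏ τ : Gal(L/↥F₀), τ β = nm σ (orderOf σ) β := by
    have := Fintype.ofFinite ↥H
    rw [← (FixedPoints.toAlgAutMulEquiv ↥H L).toEquiv.prod_comp, ← (finEquivZPowers (isOfFinOrder_of_finite σ)).prod_comp,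
      nm, ← Fin.prod_univ_eq_prod_range]
    rfl
  refine ⟨β, fun h0 => hy0 ?_, hprod.symm.trans h.symm⟩
  subst h0
  have hpos : 0 < orderOf σ := orderOf_pos σ
  rw [h, hprod, nm, Finset.prod_eq_zero (Finset.mem_range.2 hpos) (by simp)]

end Cfsg.Agent.JordanDiv
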