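import Cfsg.Agent.Lib.JordanDiv.Quadratic

/-!
`not_odd_pair`: a division Jordan subgroup containing a maximal field has no member mixing two
eigenspaces `σ`, `σ⁻¹` of odd order.
-/

set_option autoImplicit false

namespace Cfsg.Agent.JordanDiv

variable {K : Type*} [AddCommGroup K] [Finite K] {p : ℕ} {S : AddSubgroup (AddMonoid.End K)}
  {L : Type*} [Field L] [Finite L] {φ : L →+* AddMonoid.End K}

theorem finite_end : Finite (AddMonoid.End K) :=
  Finite.of_injective (fun f : AddMonoid.End K => (f : K → K)) DFunLike.coe_injective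

/-- The component of a member fixing the field lies in the field. -/
theorem proj_one_mem (h : Closed p S) (hφ : ∀ y, φ y ∈ S)
    (hcent : ∀ x ∈ S, (∀ y, Commute x (φ y)) → ∃ y, x = φ y) {x : AddMonoid.End K} (hx : x ∈ S) :
    ∃ y, proj φ 1 x = φ y :=
  hcent _ (h.proj_mem hφ (fun _ => rfl) hx) fun y => (proj_isEig 1 x) y

theorem eq_zero_of_comm_pair (hp : ∀ e : L, e ≠ 0 → ∀ X : AddMonoid.End K, φ e * X = 0 → X = 0)
    {σ : L ≃+* L} {u : AddMonoid.End K} (hu : IsEig φ σ u) (hu0 : u ≠ 0) {g : L} (hg : u * φ g = φ g * u) :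
    σ g = g := by
  by_contra hne
  refine hu0 (hp (σ g - g) (sub_ne_zero.2 hne) u ?_)
  rw [map_sub, sub_mul, ← hu, hg, sub_self]

theorem map_mul_eq_zero {R : Type*} [Ring R] (f : L →+* R) (e : L) (he : e ≠ 0) (X : R) (h : f e * X = 0) : X = 0 := by
  rw [← one_mul X, ← map_one f, ← inv_mul_cancel₀ he, map_mul, mul_assoc, h, mul_zero]

/-- The mixed case. -/
theorem not_odd_pair (h : Closed p S) [Nontrivial K] (hφ : ∀ y, φ y ∈ S)
    (hcent : ∀ x ∈ S, (∀ y, Commute x (φ y)) → ∃ y, x = φ y)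
    {σ : L ≃+* L} (hσ1 : σ ≠ 1) (hodd : Odd (orderOf σ)) {u v : AddMonoid.End K} (hu : IsEig φ σ u)
    (hv : IsEig φ σ⁻¹ v) (hs : u + v ∈ S) (hu0 : u ≠ 0) : False := by
  classical
  have : Finite (L ≃+* L) := finite_ringAut
  set m := orderOf σ with hm
  have hσm : σ ^ m = 1 := pow_orderOf_eq_one σ
  have hm1 : m ≠ 1 := fun e => hσ1 (orderOf_eq_one_iff.1 e)
  have hm2 : ∀ k : ℤ, σ ^ k = 1 → (m : ℤ) ∣ k := fun k hk => orderOf_dvd_iff_zpow_eq_one.2 hk
  have hσσ : σ * σ ≠ 1 := fun e => by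
    have := hm2 2 (by rw [zpow_two]; exact e)
    have h2 := Nat.le_of_dvd two_pos (Int.natCast_dvd_natCast.1 (by simpa using this))
    obtain ⟨k, hk⟩ := hodd
    omega
  set s := u + v with hsdef
  have hs0 : s ≠ 0 := fun e => by
    have h1 : proj φ σ s = u := by
      rw [hsdef, proj_add, proj_self hu, proj_eq_zero hv, add_zero]
      exact fun e => hσσ (by nth_rewrite 1 [← e]; exact inv_mul_cancel σ)
    rw [e, proj_zero] at h1
    exact hu0 h1.symm
  -- the products `u v` and `v u`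
  have hh : ∀ e, ∃ y, φ (σ e) * (u * v) + φ (σ.symm e) * (v * u) = φ y := by
    intro e
    obtain ⟨y, hy⟩ := proj_one_mem h hφ hcent (h.aba s hs _ (hφ e))
    refine ⟨y, ?_⟩
    rw [← hy, hsdef, add_mul, hu, hv, add_mul, mul_add, mul_add, proj_add, proj_add, proj_add, mul_assoc, mul_assoc,
      mul_assoc, mul_assoc, proj_eq_zero ((hu.mul hu).left_mul _) hσσ,
      proj_eq_zero ((hv.mul hv).left_mul _) (fun e => hσσ (by rwa [← mul_inv_rev, inv_eq_one] at e)),
      proj_self (by simpa using (hu.mul hv).left_mul (φ := φ) (σ e)),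
      proj_self (by simpa using (hv.mul hu).left_mul (φ := φ) (σ⁻¹ e)), zero_add, add_zero]
    rfl
  obtain ⟨e₁, he₁⟩ : ∃ e : L, σ e - σ.symm e ≠ 0 := by
    by_contra hcon
    push Not at hcon
    refine hσσ (RingEquiv.ext fun e => ?_)
    show σ (σ e) = e
    rw [sub_eq_zero.1 (hcon e), ] at *
    have := sub_eq_zero.1 (hcon (σ e))
    rw [σ.symm_apply_apply] at this
    simpa [sub_eq_zero.1 (hcon e)] using this
  obtain ⟨y₁, hy₁⟩ := hh e₁
  obtain ⟨y₀, hy₀⟩ := hh 1
  simp only [map_one, one_mul] at hy₀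
  obtain ⟨d, hd⟩ : ∃ d, u * v = φ d := by
    refine ⟨(σ e₁ - σ.symm e₁)⁻¹ * (y₁ - σ.symm e₁ * y₀), ?_⟩
    rw [map_mul, map_sub φ y₁, map_mul φ, ← hy₁, ← hy₀, mul_add (φ (σ.symm e₁)), add_sub_add_right_eq_sub,
      ← sub_mul, ← map_sub, ← mul_assoc, ← map_mul, inv_mul_cancel₀ he₁, map_one, one_mul]
  obtain ⟨c, hc⟩ : ∃ c, v * u = φ c := ⟨y₀ - d, by rw [map_sub, ← hd, ← hy₀, add_sub_cancel_left]⟩
  have hdc : σ c = d := by
    by_contra hne
    refine hu0 (map_mul_eq_zero φ (σ c - d) (sub_ne_zero.2 hne) u ?_)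
    rw [map_sub, sub_mul, ← hu, ← hd, ← hc, mul_assoc, sub_self]
  have huv : u * v = φ (σ c) := by rw [hdc]; exact hd
  -- the `m`th powers
  let Mid : ℕ → AddSubgroup (AddMonoid.End K) := fun n =>
    AddSubgroup.closure {X | ∃ k : ℕ, 1 ≤ k ∧ k < n ∧ IsEig φ (σ ^ ((2 * k : ℤ) - n)) X}
  have hpow : ∀ n, 1 ≤ n → s ^ n - (u ^ n + v ^ n) ∈ Mid n := by
    intro n hn
    induction n with
    | zero => omega
    | succ n ih =>
      rcases Nat.eq_zero_or_pos n with rfl | hn0
      · simp [hsdef]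
      have hstep : ∀ X ∈ Mid n, s * X ∈ Mid (n + 1) := by
        intro X hX
        induction hX using AddSubgroup.closure_induction with
        | mem X hX =>
          obtain ⟨k, hk1, hk2, hX⟩ := hX
          rw [hsdef, add_mul]
          refine add_mem (AddSubgroup.subset_closure ⟨k + 1, by omega, by omega, ?_⟩)
            (AddSubgroup.subset_closure ⟨k, hk1, by omega, ?_⟩)
          · have := hu.mul hX
            rwa [← zpow_one_add, show (1 : ℤ) + (2 * k - n) = 2 * ((k + 1 : ℕ) : ℤ) - ((n + 1 : ℕ) : ℤ) by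
              push_cast; ring] at this
          · have := hv.mul hX
            rwa [← zpow_neg_one, ← zpow_add, show (-1 : ℤ) + (2 * k - n) = 2 * (k : ℤ) - ((n + 1 : ℕ) : ℤ) by
              push_cast; ring] at this
        | zero => rw [mul_zero]; exact zero_mem _
        | add a b _ _ ha hb => rw [mul_add]; exact add_mem ha hb
        | neg a _ ha => rw [mul_neg]; exact neg_mem ha
      have h1 : u * v ^ n ∈ Mid (n + 1) := AddSubgroup.subset_closure ⟨1, le_rfl, by omega, by
        have := hu.mul (hv.pow n)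
        rwa [inv_pow, ← zpow_natCast, ← zpow_neg, ← zpow_one_add,
          show (1 : ℤ) + -(n : ℤ) = 2 * ((1 : ℕ) : ℤ) - ((n + 1 : ℕ) : ℤ) by push_cast; ring] at this⟩
      have h2 : v * u ^ n ∈ Mid (n + 1) := AddSubgroup.subset_closure ⟨n, hn0, by omega, by
        have := hv.mul (hu.pow n)
        rwa [← zpow_neg_one, ← zpow_natCast, ← zpow_add,
          show (-1 : ℤ) + (n : ℤ) = 2 * (n : ℤ) - ((n + 1 : ℕ) : ℤ) by push_cast; ring] at this⟩
      have := add_mem (hstep _ (ih hn0)) (add_mem h1 h2)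
      convert this using 1
      rw [mul_sub, ← pow_succ', hsdef, add_mul, mul_add, mul_add, ← pow_succ', ← pow_succ']
      abel
  obtain ⟨g, hg⟩ := proj_one_mem h hφ hcent (h.pow_mem hs m)
  have hum : IsEig φ 1 (u ^ m) := hσm ▸ hu.pow m
  have hvm : IsEig φ 1 (v ^ m) := by
    have := hv.pow m
    rwa [inv_pow, hσm, inv_one] at this
  have hgz : u ^ m + v ^ m = φ g := by
    have h0 : ∀ X ∈ Mid m, proj φ 1 X = 0 := by
      intro X hX
      induction hX using AddSubgroup.closure_induction with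
      | mem X hX =>
        obtain ⟨k, hk1, hk2, hX⟩ := hX
        refine proj_eq_zero hX fun e => ?_
        have hdvd : (m : ℤ) ∣ 2 * (k : ℤ) := by simpa using dvd_add (hm2 _ e) (dvd_refl (m : ℤ))
        have : m ∣ 2 * k := Int.natCast_dvd_natCast.1 (by push_cast; exact hdvd)
        have := Nat.le_of_dvd (by omega) ((Nat.Coprime.dvd_mul_left (hodd.coprime_two_right)).1 this)
        omega
      | zero => exact proj_zero _
      | add a b _ _ ha hb => rw [proj_add, ha, hb, add_zero]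
      | neg a _ ha =>
        have := proj_add (φ := φ) (1 : L ≃+* L) a (-a)
        rw [add_neg_cancel, proj_zero, ha, zero_add] at this
        exact this.symm
    have := h0 _ (hpow m hodd.pos)
    rw [sub_eq_add_neg, proj_add, hg] at this
    have hn := proj_add (φ := φ) (1 : L ≃+* L) (u ^ m + v ^ m) (-(u ^ m + v ^ m))
    rw [add_neg_cancel, proj_zero, proj_add, proj_self hum, proj_self hvm] at hn
    rw [eq_neg_of_add_eq_zero_right hn.symm, add_neg_eq_zero] at this
    exact this.symm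
  have huvm : u * v ^ m = v ^ m * u := by
    obtain ⟨k, hk⟩ : ∃ k, m = k + 1 := ⟨m - 1, by have := hodd.pos; omega⟩
    rw [hk, pow_succ' v, ← mul_assoc, huv, ← pow_succ' v, pow_succ v, mul_assoc, hc, hv.pow k c]
    have : σ⁻¹ ^ k = σ := by
      rw [inv_pow, inv_eq_iff_mul_eq_one, ← pow_succ, ← hk, hσm]
    rw [this]
  have hgu : u * φ g = φ g * u := by rw [← hgz, mul_add, add_mul, ← pow_succ', ← pow_succ, huvm]
  have hgfix : σ g = g := eq_zero_of_comm_pair (map_mul_eq_zero φ) hu hu0 hgu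
  have hprod : ∀ k, u ^ k * v ^ k = φ (nm σ k (σ c)) := by
    intro k
    induction k with
    | zero => simp [nm]
    | succ k ih =>
      rw [pow_succ' u, pow_succ v, mul_assoc u, ← mul_assoc (u ^ k), ih, ← mul_assoc, hu, mul_assoc, huv,
        ← map_mul, nm_succ, mul_comm]
  set C := nm σ m c with hCdef
  have hzv : u ^ m * v ^ m = φ C := by rw [hprod, nm_apply hσm]
  have hz : u ^ m * u ^ m = φ g * u ^ m - φ C := by
    rw [← hgz, add_mul]
    have : v ^ m * u ^ m = u ^ m * v ^ m := by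
      rw [eq_sub_of_add_eq' hgz, sub_mul, mul_sub, hum g]
      rfl
    rw [this, hzv, add_sub_cancel_right]
  -- a singular member
  have finish : ∀ (u' v' : AddMonoid.End K) (e : L), IsEig φ σ u' → IsEig φ σ⁻¹ v' → u' ≠ 0 → u' + v' ∈ S →
      ∀ y : K, y ≠ 0 → (φ e + (u' + v')) y = 0 → False := by
    intro u' v' e hu' hv' hu'0 hs' y hy hx
    have hne : φ e + (u' + v') ≠ 0 := fun e0 => by
      have h1 : proj φ σ (φ e + (u' + v')) = u' := by
        rw [proj_add, proj_add, proj_eq_zero (isEig_map e) (Ne.symm hσ1), proj_self hu', proj_eq_zero hv', zero_add,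
          add_zero]
        exact fun e => hσσ (by nth_rewrite 1 [← e]; exact inv_mul_cancel σ)
      rw [e0, proj_zero] at h1
      exact hu'0 h1.symm
    obtain ⟨t, -, -, ht⟩ := h.inv _ (add_mem (hφ e) hs') hne
    refine hy ?_
    have := congrArg t hx
    rw [← mul_app, ht, map_zero] at this
    exact this
  have useRoot : ∀ (τ : L ≃+* L) (a b : AddMonoid.End K) (c' lam : L), orderOf τ = m → IsEig φ τ a →
      IsEig φ τ⁻¹ b → b * a = φ c' → τ lam = lam → lam ≠ 0 → (∃ w : K, w ≠ 0 ∧ (a ^ m) w = φ lam w) →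
      ∃ (e : L) (y : K), y ≠ 0 ∧ (φ e + (a + b)) y = 0 := by
    intro τ a b c' lam hτ ha hb hba hlam hlam0 ⟨w₀, hw₀, hw⟩
    obtain ⟨β, hβ0, hβ⟩ := exists_nm_eq τ hlam hlam0
    obtain ⟨w, hw0, hwu⟩ := exists_eigvec φ ha hw₀ (by rw [hτ]; exact hw) hβ hβ0
    exact ⟨_, a w, apply_ne_zero φ hwu hw0 hβ0, apply_eq_zero φ ha hba hwu hβ0⟩
  obtain ⟨w₁, hw₁⟩ := exists_ne (0 : K)
  by_cases hc0 : c = 0
  · have hC : C = 0 := by
      rw [hCdef, hc0, nm]
      exact Finset.prod_eq_zero (Finset.mem_range.2 hodd.pos) (map_zero (σ ^ 0))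
    have hvu0 : v * u = 0 := by rw [hc, hc0, map_zero]
    have huv0 : u * v = 0 := by rw [huv, hc0, map_zero, map_zero]
    have hsum : ∀ n, s ^ (n + 1) = u ^ (n + 1) + v ^ (n + 1) := by
      intro n
      induction n with
      | zero => simp [hsdef]
      | succ n ih =>
        rw [pow_succ s, ih, hsdef, add_mul, mul_add, mul_add]
        simp only [pow_succ, mul_assoc, hvu0, huv0, mul_zero, add_zero, zero_add]
    obtain ⟨k, hk⟩ : ∃ k, m = k + 1 := ⟨m - 1, by have := hodd.pos; omega⟩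
    have hsg : s ^ m = φ g := by rw [← hgz, hk, hsum]
    have hg0 : g ≠ 0 := by
      intro e
      obtain ⟨t, -, hst, hts⟩ := h.inv s hs hs0
      have hu1 : IsUnit s := ⟨⟨s, t, hst, hts⟩, rfl⟩
      have := hu1.pow m
      rw [hsg, e, map_zero] at this
      have : Nontrivial (AddMonoid.End K) :=
        ⟨⟨1, 0, fun e => hw₁ (DFunLike.congr_fun e w₁)⟩⟩
      exact not_isUnit_zero ‹IsUnit (0 : AddMonoid.End K)›
    have hzz : u ^ m * u ^ m = φ g * u ^ m := by rw [hz, hC, map_zero, sub_zero]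
    by_cases hz0 : ∀ w, (u ^ m) w = 0
    · have hvg : ∀ w, (v ^ m) w = φ g w := fun w => by
        rw [← hgz]
        show (v ^ m) w = (u ^ m) w + (v ^ m) w
        rw [hz0, zero_add]
      obtain ⟨e, y, hy, hx⟩ := useRoot σ⁻¹ v u (σ c) g (by rw [orderOf_inv]) hv (by rwa [inv_inv]) huv
        (by show σ.symm g = g; conv_lhs => rw [← hgfix, σ.symm_apply_apply]) hg0 ⟨w₁, hw₁, hvg w₁⟩
      exact finish u v e hu hv hu0 hs y hy (by rw [add_comm u v]; exact hx)
    · push Not at hz0
      obtain ⟨w, hw⟩ := hz0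
      obtain ⟨e, y, hy, hx⟩ := useRoot σ u v c g rfl hu hv hc hgfix hg0 ⟨_, hw, by rw [← mul_app, hzz]; rfl⟩
      exact finish u v e hu hv hu0 hs y hy hx
  have hC0 : C ≠ 0 := nm_ne_zero σ m hc0
  have hCfix : σ C = C := nm_fixed hσm c
  by_cases hroot : ∀ y : L, y * y - g * y + C ≠ 0
  · obtain ⟨e₀, e, he₀, y, hy, hx⟩ := exists_quadratic_split φ hodd hu hv hc hc0 hgfix rfl hz hroot hw₁
    have h1 : φ e₀ * (u + v) * φ e₀ = φ (e₀ * σ e₀) * u + φ (e₀ * σ.symm e₀) * v := by
      rw [mul_add, add_mul, mul_assoc, hu, mul_assoc (φ e₀) v, hv, ← mul_assoc, ← mul_assoc, ← map_mul, ← map_mul]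
      rfl
    rw [h1] at hx
    refine finish _ _ e (hu.left_mul _) (hv.left_mul _) (fun e0 => hu0 (map_mul_eq_zero φ _
      (mul_ne_zero he₀ ((map_ne_zero σ).2 he₀)) u e0)) ?_ y hy hx
    rw [← h1]
    exact h.aba _ (hφ _) _ hs
  push Not at hroot
  obtain ⟨lam, hlam⟩ := hroot
  have hlamfix : σ lam = lam := by
    by_contra hne
    have h2 : σ (σ lam) * σ (σ lam) - g * σ (σ lam) + C = 0 := by
      have := congrArg σ (congrArg σ hlam)
      simpa [hgfix, hCfix] using this
    have h1 : σ lam * σ lam - g * σ lam + C = 0 := by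
      have := congrArg σ hlam
      simpa [hgfix, hCfix] using this
    have hsum' : σ lam + lam = g := by
      have : (σ lam - lam) * (σ lam + lam - g) = 0 := by linear_combination h1 - hlam
      exact sub_eq_zero.1 ((mul_eq_zero.1 this).resolve_left (sub_ne_zero.2 hne))
    have h22 : σ (σ lam) = lam := by
      have := congrArg σ hsum'
      rw [map_add, hgfix] at this
      linear_combination this - hsum'
    have hper : ∀ k, (σ ^ (2 * k)) lam = lam := by
      intro k
      induction k with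
      | zero => rfl
      | succ k ih => rw [show 2 * (k + 1) = 2 * k + 1 + 1 by ring, pow_succ_apply, pow_succ_apply, ih, h22]
    obtain ⟨k, hk⟩ := hodd
    refine hne ?_
    conv_lhs => rw [← hper k, ← pow_succ_apply, ← hk, hσm]
    rfl
  have hfac : ∀ w, (u ^ m) ((u ^ m) w - φ (g - lam) w) = φ lam ((u ^ m) w - φ (g - lam) w) := by
    intro w
    have h' : u ^ m * (u ^ m - φ (g - lam)) = φ lam * (u ^ m - φ (g - lam)) := by
      rw [mul_sub, mul_sub, hum, ← map_mul, show lam * (g - lam) = C by linear_combination -hlam, hz]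
      show φ g * u ^ m - φ C - φ (g - lam) * u ^ m = φ lam * u ^ m - φ C
      rw [map_sub, sub_mul]
      abel
    exact DFunLike.congr_fun h' w
  by_cases hall : ∀ w, (u ^ m) w - φ (g - lam) w = 0
  · obtain ⟨e, y, hy, hx⟩ := useRoot σ u v c (g - lam) rfl hu hv hc (by rw [map_sub, hgfix, hlamfix])
      (fun e0 => hC0 (by linear_combination hlam + lam * e0)) ⟨w₁, hw₁, sub_eq_zero.1 (hall w₁)⟩
    exact finish u v e hu hv hu0 hs y hy hx
  · push Not at hall
    obtain ⟨w, hw⟩ := hall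
    obtain ⟨e, y, hy, hx⟩ := useRoot σ u v c lam rfl hu hv hc hlamfix
      (fun e0 => hC0 (by rw [e0] at hlam; linear_combination hlam)) ⟨_, hw, hfac w⟩
    exact finish u v e hu hv hu0 hs y hy hx

end Cfsg.Agent.JordanDiv
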