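import Cfsg.Agent.Lib.JordanDiv.Eigen

/-!
`exists_quadratic_split`: for `u^m` a root of a quadratic without roots in the field, a scaling
making the singular element rational.
-/

set_option autoImplicit false

namespace Cfsg.Agent.JordanDiv

open Polynomial

variable {K : Type*} [AddCommGroup K] {L : Type*} [Field L] [Finite L]

theorem eq_one_of_twist {σ : L ≃+* L} {m : ℕ} (hm : σ ^ m = 1) (hodd : Odd m) {d : L}
    (h1 : nm σ m d = 1) (h2 : (d * σ.symm d) * (d * σ.symm d) = 1) : d = 1 := by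
  have hd0 : d ≠ 0 := by
    rintro rfl
    simp at h2
  have hsymm : nm σ m (σ.symm d) = 1 := by rw [← nm_apply hm, σ.apply_symm_apply, h1]
  have h3 : d * σ.symm d = 1 := by
    rcases mul_self_eq_one_iff.1 h2 with h | h
    · exact h
    · have := congrArg (nm σ m) h
      rw [nm_mul, h1, hsymm, one_mul, nm_neg_one σ hodd] at this
      exact h.trans this.symm
  have h4 : σ.symm d = d⁻¹ := eq_inv_of_mul_eq_one_right h3
  have h5 : σ d = d⁻¹ := by
    have := congrArg σ h4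
    rw [σ.apply_symm_apply, map_inv₀] at this
    rw [← inv_inv (σ d), ← this]
  have h6 : ∀ k, (σ ^ (2 * k)) d = d := by
    intro k
    induction k with
    | zero => rfl
    | succ k ih =>
      rw [show 2 * (k + 1) = 2 * k + 1 + 1 by ring, pow_succ_apply, pow_succ_apply, ih, h5, map_inv₀, h5, inv_inv]
  obtain ⟨k, rfl⟩ := hodd
  have h7 : σ d = d := by
    conv_lhs => rw [← h6 k, ← pow_succ_apply, hm]
    rfl
  have h8 : d * d = 1 := by
    nth_rewrite 2 [show d = d⁻¹ from h7.symm.trans h5]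
    exact mul_inv_cancel₀ hd0
  rw [nm_of_fixed σ _ h7, pow_succ, pow_mul, pow_two, h8, one_pow, one_mul] at h1
  exact h1

theorem exists_twist {σ : L ≃+* L} {m : ℕ} (hm : σ ^ m = 1) (hodd : Odd m) {η : L} (hη : nm σ m η = 1) :
    ∃ e : L, nm σ m e = 1 ∧ (e * σ.symm e) * (e * σ.symm e) = η := by
  let H := {y : L // nm σ m y = 1}
  let f : H → H := fun e => ⟨(e.1 * σ.symm e.1) * (e.1 * σ.symm e.1), by
    have hs : nm σ m (σ.symm e.1) = 1 := by rw [← nm_apply hm, σ.apply_symm_apply, e.2]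
    rw [nm_mul, nm_mul, e.2, hs, one_mul, one_mul]⟩
  have hf : Function.Injective f := by
    rintro ⟨a, ha⟩ ⟨b, hb⟩ hab
    have hab' : (a * σ.symm a) * (a * σ.symm a) = (b * σ.symm b) * (b * σ.symm b) := congrArg Subtype.val hab
    have hb0 : b ≠ 0 := by
      intro h
      have := nm_mul σ m (0 : L) b
      rw [zero_mul, hb, mul_one] at this
      rcases Nat.eq_zero_or_pos m with hm0 | hm0
      · subst hm0; exact absurd hodd (by decide)
      · rw [h, nm, Finset.prod_eq_zero (Finset.mem_range.2 hm0) (map_zero (σ ^ 0))] at hb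
        exact zero_ne_one hb
    have hsb : σ.symm b ≠ 0 := (map_ne_zero σ.symm).2 hb0
    refine Subtype.ext (eq_of_div_eq_one (eq_one_of_twist hm hodd
      (by rw [div_eq_mul_inv, nm_mul, nm_inv, ha, hb, inv_one, one_mul]) ?_))
    rw [map_div₀, div_mul_div_comm, div_mul_div_comm, hab',
      div_self (mul_ne_zero (mul_ne_zero hb0 hsb) (mul_ne_zero hb0 hsb))]
  obtain ⟨e, he⟩ := (Finite.injective_iff_surjective.1 hf) ⟨η, hη⟩
  exact ⟨e.1, e.2, congrArg Subtype.val he⟩

/-- If `z = u^m` is a root of `X² - g X + C` without roots in `L`, some scaling `e₀` of `u + v` has a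
translate by `L` which is singular. -/
theorem exists_quadratic_split (φ : L →+* AddMonoid.End K) {σ : L ≃+* L} (hodd : Odd (orderOf σ))
    {u v : AddMonoid.End K} (hu : IsEig φ σ u) (hv : IsEig φ σ⁻¹ v) {c : L} (hc : v * u = φ c) (hc0 : c ≠ 0)
    {g C : L} (hg : σ g = g) (hC : nm σ (orderOf σ) c = C)
    (hz : u ^ orderOf σ * u ^ orderOf σ = φ g * u ^ orderOf σ - φ C)
    (hnoroot : ∀ y : L, y * y - g * y + C ≠ 0) {w₀ : K} (hw₀ : w₀ ≠ 0) :
    ∃ e₀ e : L, e₀ ≠ 0 ∧ ∃ y : K, y ≠ 0 ∧ (φ e + φ e₀ * (u + v) * φ e₀) y = 0 := by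
  classical
  set m := orderOf σ with hm
  have hσm : σ ^ m = 1 := pow_orderOf_eq_one σ
  set z := u ^ m with hzdef
  have hzc : ∀ y, Commute (φ y) z := fun y => by
    have h := hu.pow m y
    rw [hσm] at h
    exact h.symm
  have hCfix : σ C = C := hC ▸ nm_fixed hσm c
  set q : L[X] := X ^ 2 - Polynomial.C g * X + Polynomial.C C with hq
  have hqe : ∀ {T : Type _} [CommRing T] (f : L →+* T) (x : T), eval₂ f x q = x * x - f g * x + f C := by
    intro T _ f x
    rw [hq]; simp [pow_two]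
  have hqdeg : q.natDegree = 2 := by rw [hq]; compute_degree!
  have hqm : q.Monic := by rw [hq]; monicity!
  have hirr : Fact (Irreducible q) := ⟨irreducible_of_degree_le_three_of_not_isRoot (by rw [hqdeg]; decide)
    fun y hy => hnoroot y (by
      rw [IsRoot, hq] at hy
      simpa [pow_two] using hy)⟩
  let L₂ := AdjoinRoot q
  let ι : L →+* L₂ := AdjoinRoot.of q
  let θ : L₂ := AdjoinRoot.root q
  have hθ : θ * θ - ι g * θ + ι C = 0 := by
    have h := AdjoinRoot.eval₂_root q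
    rw [hq] at h
    simpa [pow_two, eval₂_add, eval₂_sub, eval₂_mul] using h
  have : Finite L₂ := by
    have := (AdjoinRoot.powerBasis hirr.out.ne_zero).finite
    exact Module.finite_of_finite L
  have hrepr : ∀ y : L₂, ∃ a b : L, y = ι a + ι b * θ := by
    intro y
    induction y using AdjoinRoot.induction_on with
    | ih f =>
      have hlt := natDegree_modByMonic_lt f hqm (fun h => by rw [h] at hqdeg; simp at hqdeg)
      obtain ⟨b, a, hab⟩ := exists_eq_X_add_C_of_natDegree_le_one (p := f %ₘ q) (by omega)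
      refine ⟨a, b, ?_⟩
      have h : AdjoinRoot.mk q f = AdjoinRoot.mk q (f %ₘ q) := AdjoinRoot.mk_eq_mk.2
        ⟨f /ₘ q, by have := modByMonic_add_div f q; linear_combination -this⟩
      rw [h, hab, map_add, map_mul, AdjoinRoot.mk_C, AdjoinRoot.mk_C, AdjoinRoot.mk_X, add_comm]
  have hext : ∀ {R : Type _} [Semiring R] (f f' : L₂ →+* R), (∀ a, f (ι a) = f' (ι a)) → f θ = f' θ → f = f' := by
    intro R _ f f' h1 h2
    refine RingHom.ext fun y => ?_
    obtain ⟨a, b, rfl⟩ := hrepr y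
    rw [map_add, map_add, map_mul, map_mul, h1, h1, h2]
  -- the action on `K`
  let ev : L[X] →+* AddMonoid.End K := eval₂RingHom' φ z hzc
  have hevq : ev q = 0 := by
    show eval₂ φ z q = 0
    rw [hq, eval₂_add, eval₂_sub, eval₂_C, eval₂_X_pow, eval₂_mul_noncomm φ z (fun k => hzc _),
      eval₂_C, eval₂_X, pow_two, hz]
    abel
  let φ₂ : L₂ →+* AddMonoid.End K := Ideal.Quotient.lift _ ev fun f hf => by
    obtain ⟨r, rfl⟩ := Ideal.mem_span_singleton.1 hf
    rw [map_mul, hevq, zero_mul]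
  have hφι : ∀ a, φ₂ (ι a) = φ a := fun a => by
    show eval₂ φ z (Polynomial.C a) = _
    rw [eval₂_C]
  have hφθ : φ₂ θ = z := by
    show eval₂ φ z X = _
    rw [eval₂_X]
  -- the two automorphisms
  have hroot₁ : eval₂ (ι.comp (σ : L →+* L)) θ q = 0 := by
    rw [hqe]; simp [hg, hCfix]
    linear_combination hθ
  let σ₁ : L₂ ≃+* L₂ := RingEquiv.ofBijective (AdjoinRoot.lift (ι.comp (σ : L →+* L)) θ hroot₁)
    ⟨RingHom.injective _, Finite.injective_iff_surjective.1 (RingHom.injective _)⟩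
  have hσι : ∀ a, σ₁ (ι a) = ι (σ a) := fun a => AdjoinRoot.lift_of hroot₁
  have hσθ : σ₁ θ = θ := AdjoinRoot.lift_root hroot₁
  have hroot₂ : eval₂ ι (ι g - θ) q = 0 := by
    rw [hqe]
    linear_combination hθ
  let bar : L₂ →+* L₂ := AdjoinRoot.lift ι (ι g - θ) hroot₂
  have hbι : ∀ a, bar (ι a) = ι a := fun a => AdjoinRoot.lift_of hroot₂
  have hbθ : bar θ = ι g - θ := AdjoinRoot.lift_root hroot₂
  have hbσ : ∀ y, bar (σ₁ y) = σ₁ (bar y) := by
    intro y
    refine RingHom.congr_fun (hext (bar.comp σ₁.toRingHom) (σ₁.toRingHom.comp bar) (fun a => ?_) ?_) y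
    · show bar (σ₁ (ι a)) = σ₁ (bar (ι a))
      rw [hσι, hbι, hbι, hσι]
    · show bar (σ₁ θ) = σ₁ (bar θ)
      rw [hσθ, hbθ, map_sub, hσι, hg, hσθ]
  have hbb : ∀ y, bar (bar y) = y := by
    intro y
    refine RingHom.congr_fun (hext (bar.comp bar) (RingHom.id _) (fun a => ?_) ?_) y
    · show bar (bar (ι a)) = ι a
      rw [hbι, hbι]
    · show bar (bar θ) = θ
      rw [hbθ, map_sub, hbι, hbθ, sub_sub_cancel]
  have hθL : ∀ a, θ ≠ ι a := fun a h => hnoroot a (ι.injective (by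
    rw [map_zero, map_add, map_sub, map_mul, map_mul, ← h]; exact hθ))
  have hsep : θ ≠ ι g - θ := by
    intro h
    have h2 : θ + θ = ι g := by linear_combination h
    by_cases htwo : (2 : L) = 0
    · obtain ⟨a, ha⟩ : ∃ a, a * a = C := by
        have : Finite L := inferInstance
        have hinj : Function.Injective fun a : L => a * a := fun a b hab => by
          have : (a - b) * (a - b) = 0 := by
            linear_combination hab + (b * b - a * b) * htwo
          exact sub_eq_zero.1 (mul_self_eq_zero.1 this)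
        exact Finite.injective_iff_surjective.1 hinj C
      refine hθL a (sub_eq_zero.1 (mul_self_eq_zero.1 ?_))
      have htwo' : (2 : L₂) = 0 := by rw [← map_ofNat ι 2, htwo, map_zero]
      linear_combination hθ + (-θ) * h2 + (θ * θ - θ * ι a) * htwo' + (congrArg ι ha) - (map_mul ι a a)
    · refine hθL (g * 2⁻¹) ?_
      rw [map_mul, ← h2, show θ + θ = θ * ι 2 by rw [map_ofNat]; ring, mul_assoc, ← map_mul, mul_inv_cancel₀ htwo,
        map_one, mul_one]
  have hfix : ∀ y, bar y = y → ∃ a, y = ι a := by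
    intro y hy
    obtain ⟨a, b, rfl⟩ := hrepr y
    refine ⟨a, ?_⟩
    rw [map_add, map_mul, hbι, hbι, hbθ] at hy
    have h0 : ι b * (ι g - θ - θ) = 0 := by linear_combination hy
    rcases mul_eq_zero.1 h0 with h | h
    · rw [h, zero_mul, add_zero]
    · exact absurd (by linear_combination -h) hsep
  have hσι' : ∀ k a, (σ₁ ^ k) (ι a) = ι ((σ ^ k) a) := by
    intro k
    induction k with
    | zero => intro a; rfl
    | succ k ih => intro a; rw [pow_succ_apply, ih, hσι, pow_succ_apply]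
  have hbpow : ∀ i y, (σ₁ ^ i) (bar y) = bar ((σ₁ ^ i) y) := by
    intro i
    induction i with
    | zero => intro y; rfl
    | succ i ih => intro y; rw [pow_succ_apply, ih, pow_succ_apply, hbσ]
  have hord : orderOf σ₁ = m := by
    have hp : ∀ k, ∀ a, (σ₁ ^ k) (ι a) = ι ((σ ^ k) a) := by
      intro k
      induction k with
      | zero => intro a; rfl
      | succ k ih => intro a; rw [pow_succ_apply, ih, hσι, pow_succ_apply]
    refine orderOf_eq_iff (Nat.pos_of_ne_zero fun h => by rw [h] at hodd; exact absurd hodd (by decide)) |>.2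
      ⟨?_, fun k hk hk0 h => ?_⟩
    · have hpθ : ∀ k, (σ₁ ^ k) θ = θ := fun k => by
        induction k with
        | zero => rfl
        | succ k ih => rw [pow_succ_apply, ih, hσθ]
      refine RingEquiv.ext fun y => ?_
      exact RingHom.congr_fun (hext (σ₁ ^ m).toRingHom (RingHom.id _)
        (fun a => by show (σ₁ ^ m) (ι a) = ι a; rw [hp, hσm]; rfl) (hpθ m)) y
    · have : σ ^ k = 1 := RingEquiv.ext fun a => ι.injective (by rw [← hp, h]; rfl)
      exact absurd (orderOf_dvd_of_pow_eq_one this) (fun hd => absurd (Nat.le_of_dvd hk0 hd) (by omega))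
  have hθ0 : θ ≠ 0 := fun h => hθL 0 (by rw [h, map_zero])
  obtain ⟨β, hβ0, hβ⟩ := exists_nm_eq σ₁ hσθ hθ0
  rw [hord] at hβ
  set δ := β - bar β with hδ
  have hδ0 : δ ≠ 0 := by
    intro h
    obtain ⟨b, rfl⟩ := hfix β (sub_eq_zero.1 h).symm
    refine hθL (nm σ m b) ?_
    rw [← hβ, nm, nm, map_prod]
    exact Finset.prod_congr rfl fun i _ => hσι' i b
  have hbδ : bar δ = -δ := by rw [hδ, map_sub, hbb, neg_sub]
  have hbarβ0 : bar β ≠ 0 := (map_ne_zero bar).2 hβ0
  set c₂ := β * bar β * (σ₁ δ * δ⁻¹) with hc₂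
  obtain ⟨c', hc'⟩ := hfix c₂ (by
    rw [hc₂, map_mul, map_mul, map_mul, hbb, map_inv₀, hbσ, hbδ, map_neg, inv_neg, neg_mul_neg, mul_comm (bar β)])
  obtain ⟨e', he'⟩ := hfix (-(σ₁ β + c₂ * β⁻¹)) (by
    have h1 : c₂ * β⁻¹ = bar β * σ₁ δ * δ⁻¹ := by
      rw [hc₂]; linear_combination (bar β * σ₁ δ * δ⁻¹) * (mul_inv_cancel₀ hβ0)
    have hσδ : σ₁ δ = σ₁ β - σ₁ (bar β) := by rw [hδ, map_sub]
    rw [h1, map_neg, map_add, map_mul, map_mul, hbb, map_inv₀, hbσ, hbσ, hbδ, map_neg, inv_neg]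
    linear_combination (-(σ₁ δ)) * (mul_inv_cancel₀ hδ0) + (σ₁ δ * δ⁻¹) * hδ - hσδ)
  have hnι : ∀ a, nm σ₁ m (ι a) = ι (nm σ m a) := fun a => by
    simp only [nm, map_prod, hσι']
  have hnc : nm σ m c' = C := by
    apply ι.injective
    rw [← hnι, ← hc', hc₂, nm_mul, nm_mul, nm_mul, nm_inv, nm_apply (hord ▸ pow_orderOf_eq_one σ₁),
      mul_inv_cancel₀ (nm_ne_zero σ₁ m hδ0), mul_one, hβ]
    have hnb : nm σ₁ m (bar β) = bar (nm σ₁ m β) := by
      simp only [nm, map_prod]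
      exact Finset.prod_congr rfl fun i _ => hbpow i β
    rw [hnb, hβ, hbθ]
    linear_combination -hθ
  obtain ⟨e₀, he₀1, he₀⟩ := exists_twist hσm hodd (η := c' * c⁻¹)
    (by rw [nm_mul, nm_inv, hnc, hC, mul_inv_cancel₀ (hC ▸ nm_ne_zero σ m hc0)])
  have he₀0 : e₀ ≠ 0 := by
    rintro rfl
    have := hnc
    rw [zero_mul, zero_mul] at he₀
    rcases mul_eq_zero.1 he₀.symm with h | h
    · rw [h, nm, Finset.prod_eq_zero (Finset.mem_range.2 hodd.pos) (map_zero (σ ^ 0))] at this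
      exact nm_ne_zero σ m hc0 (hC.trans this.symm)
    · exact hc0 (inv_eq_zero.1 h)
  set u' := φ (e₀ * σ e₀) * u with hu'
  set v' := φ (e₀ * σ.symm e₀) * v with hv'
  have hsum : φ e₀ * (u + v) * φ e₀ = u' + v' := by
    rw [hu', hv', mul_add, add_mul, mul_assoc, hu, mul_assoc (φ e₀) v, hv, ← mul_assoc, ← mul_assoc, ← map_mul,
      ← map_mul]
    rfl
  have hu'e : IsEig φ σ u' := hu.left_mul _
  have hu'm : u' ^ m = z := by
    rw [hu', hu.mul_pow_eq, nm_mul, he₀1, nm_apply hσm, he₀1, one_mul, map_one, one_mul]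
  have hv'u' : v' * u' = φ c' := by
    rw [hu', hv', show φ (e₀ * σ.symm e₀) * v * (φ (e₀ * σ e₀) * u) =
      φ (e₀ * σ.symm e₀) * (v * φ (e₀ * σ e₀)) * u by simp [mul_assoc], hv]
    show φ (e₀ * σ.symm e₀) * (φ (σ.symm (e₀ * σ e₀)) * v) * u = _
    rw [map_mul σ.symm, σ.symm_apply_apply, mul_comm (σ.symm e₀) e₀, ← mul_assoc, ← map_mul, mul_assoc, hc, ← map_mul,
      he₀, inv_mul_cancel_right₀ hc0]
  have hu₂ : IsEig φ₂ σ₁ u' := by
    intro y
    obtain ⟨a, b, rfl⟩ := hrepr y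
    rw [map_add σ₁, map_mul σ₁, hσι, hσι, hσθ, map_add φ₂, map_add φ₂, map_mul φ₂, map_mul φ₂, hφι, hφι, hφι, hφι,
      hφθ, mul_add, add_mul, hu'e, ← mul_assoc u', hu'e, mul_assoc (φ (σ b)) z, mul_assoc (φ (σ b)) u',
      show z * u' = u' * z by rw [← hu'm, ← pow_succ, ← pow_succ']]
  obtain ⟨w, hw, hwu⟩ := exists_eigvec φ₂ hu₂ (w₀ := w₀) hw₀ (lam := θ) (β := β)
    (by rw [hord, hu'm, hφθ]) (by rw [hord, hβ]) hβ0
  refine ⟨e₀, e', he₀0, u' w, apply_ne_zero φ₂ hwu hw hβ0, ?_⟩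
  rw [hsum, ← hφι e', ← he', hc']
  exact apply_eq_zero φ₂ hu₂ (hv'u'.trans (hφι c').symm) hwu hβ0

end Cfsg.Agent.JordanDiv
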